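import Mathlib
import Cfsg.Agent.H439.Der.Tools
import Cfsg.Agent.H81.SaxSp
import Cfsg.Agent.ClassicalGeometry.SympInvolutions

/-!
# Elements of odd order of `PSp_{2m}(q)` and automorphisms
-/

set_option autoImplicit false

namespace Cfsg.Agent.H388.Der

open Cfsg Cfsg.Agent.H876

section

variable {F : Type} [Field F] {m : ℕ}

theorem center_sq {z : Matrix.symplecticGroup (Fin m) F}
    (hz : z ∈ Subgroup.center (Matrix.symplecticGroup (Fin m) F)) : z ^ 2 = 1 := by
  apply Subtype.ext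
  rw [SubmonoidClass.coe_pow]
  rcases Cfsg.Agent.ClassicalGeometry.SympInvolutions.center_eq hz with h | h
  · rw [h, one_pow]; rfl
  · rw [h, neg_one_sq]; rfl

/-- elements of odd order lift -/
theorem exists_lift {n : ℕ} (hn : Odd n) {x : PSp m F} (hx : x ^ n = 1) :
    ∃ A : Matrix.symplecticGroup (Fin m) F, (QuotientGroup.mk A : PSp m F) = x ∧ A ^ n = 1 := by
  obtain ⟨A, rfl⟩ := QuotientGroup.mk_surjective x
  have h1 : A ^ n ∈ Subgroup.center (Matrix.symplecticGroup (Fin m) F) := by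
    rw [← QuotientGroup.mk_pow] at hx
    exact (QuotientGroup.eq_one_iff _).1 hx
  refine ⟨A ^ (n + 1), ?_, ?_⟩
  · rw [QuotientGroup.mk_pow, pow_succ, hx, one_mul]
  · rw [← pow_mul, mul_comm, pow_mul]
    obtain ⟨k, hk⟩ := hn.add_one
    rw [hk, ← two_mul, pow_mul, center_sq h1, one_pow]

theorem lift_unique {n : ℕ} (hn : Odd n) {A B : Matrix.symplecticGroup (Fin m) F} (hA : A ^ n = 1) (hB : B ^ n = 1)
    (h : (QuotientGroup.mk A : PSp m F) = QuotientGroup.mk B) : A = B := by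
  have h1 : A⁻¹ * B ∈ Subgroup.center (Matrix.symplecticGroup (Fin m) F) := QuotientGroup.eq.1 h
  obtain ⟨z, hz⟩ : ∃ z, z = A⁻¹ * B := ⟨_, rfl⟩
  rw [← hz] at h1
  have h2 : B = A * z := by rw [hz, mul_inv_cancel_left]
  have h3 : Commute A z := Subgroup.mem_center_iff.1 h1 A
  have h4 : z ^ n = 1 := by
    rw [h2, h3.mul_pow, hA, one_mul] at hB
    exact hB
  obtain ⟨k, hk⟩ := hn
  rw [hk, pow_succ, pow_mul, center_sq h1, one_pow, one_mul] at h4
  rw [h2, h4, mul_one]

/-- an automorphism on an element of odd order -/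
theorem aut_odd [Finite F] (hm : 3 ≤ m) {n : ℕ} (hn : Odd n) (φ : PSp m F ≃* PSp m F)
    {A C : Matrix.symplecticGroup (Fin m) F} (hA : A ^ n = 1) (hC : C ^ n = 1)
    (h : φ (QuotientGroup.mk A) = QuotientGroup.mk C) :
    ∃ (B : GL (Fin m ⊕ Fin m) F) (σ : F ≃+* F),
      spToGL m F C = B * Matrix.GeneralLinearGroup.map (σ : F →+* F) (spToGL m F A) * B⁻¹ := by
  obtain ⟨B, σ, C', h1, h2⟩ := Cfsg.Agent.H81.SaxSp.aut_apply hm φ A
  have h3 : C' ^ n = 1 := by
    apply Cfsg.Agent.H262.El.spToGL_injective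
    rw [map_pow, h2, conj_pow, ← map_pow, ← map_pow, hA, map_one, map_one, mul_one, mul_inv_cancel]
  have h4 : C' = C := lift_unique hn h3 hC (h1.symm.trans h)
  exact ⟨B, σ, by rw [← h4, h2]⟩

end

end Cfsg.Agent.H388.Der
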