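import Mathlib
import Cfsg.Agent.H343.Blk

/-!
# Permutation matrices in `Sp_{2n}`, and `diag(b, 1)`, `diag(b, b)`
-/

set_option autoImplicit false

namespace Cfsg.Agent.H388.Der

open Matrix Cfsg Cfsg.Agent.H343.Blk

section

variable {F : Type*} [Field F] {n k : ℕ}

theorem J_apply' (a b : Fin n ⊕ Fin n) : J (Fin n) F a b =
    if a = b.swap then (if b.isRight then -1 else 1) else 0 := by
  rcases a with a | a <;> rcases b with b | b <;> simp [J, Matrix.one_apply]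
  split <;> simp

/-- the permutation matrix of `σ` on both halves -/
def permMat (F : Type*) [Field F] (σ : Equiv.Perm (Fin n)) : Matrix (Fin n ⊕ Fin n) (Fin n ⊕ Fin n) F :=
  (1 : Matrix (Fin n ⊕ Fin n) (Fin n ⊕ Fin n) F).submatrix (Sum.map σ σ) id

theorem permMat_mulVec (σ : Equiv.Perm (Fin n)) (v : Fin n ⊕ Fin n → F) :
    permMat F σ *ᵥ v = v ∘ Sum.map σ σ := by
  funext x
  simp [permMat, Matrix.mulVec, dotProduct, Matrix.one_apply]

theorem permMat_mem (σ : Equiv.Perm (Fin n)) : permMat F σ ∈ symplecticGroup (Fin n) F := by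
  rw [SymplecticGroup.mem_iff]
  let τ : Fin n ⊕ Fin n ≃ Fin n ⊕ Fin n := Equiv.sumCongr σ σ
  have h1 : permMat F σ * J (Fin n) F = (J (Fin n) F).submatrix τ id := by
    ext x y
    rw [Matrix.mul_apply, Matrix.submatrix_apply]
    rw [Finset.sum_eq_single (τ x)]
    · show (1 : Matrix (Fin n ⊕ Fin n) (Fin n ⊕ Fin n) F) (τ x) (τ x) * _ = _
      rw [Matrix.one_apply_eq, one_mul, id]
    · intro z _ hz
      show (1 : Matrix (Fin n ⊕ Fin n) (Fin n ⊕ Fin n) F) (τ x) z * _ = _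
      rw [Matrix.one_apply_ne hz.symm, zero_mul]
    · intro h; exact absurd (Finset.mem_univ _) h
  rw [h1]
  ext x y
  rw [Matrix.mul_apply, Finset.sum_eq_single (τ y)]
  · show J (Fin n) F (τ x) (τ y) * (1 : Matrix (Fin n ⊕ Fin n) (Fin n ⊕ Fin n) F) (τ y) (τ y) = _
    rw [Matrix.one_apply_eq, mul_one, J_apply', J_apply']
    have h2 : (τ y).swap = τ y.swap := by rcases y with y | y <;> rfl
    have h3 : (τ y).isRight = y.isRight := by rcases y with y | y <;> rfl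
    rw [h2, h3]
    by_cases h4 : x = y.swap
    · rw [if_pos h4, if_pos (congrArg τ h4)]
    · rw [if_neg h4, if_neg fun h5 => h4 (τ.injective h5)]
  · intro z _ hz
    show _ * (1 : Matrix (Fin n ⊕ Fin n) (Fin n ⊕ Fin n) F) (τ y) z = _
    rw [Matrix.one_apply_ne hz.symm, mul_zero]
  · intro h; exact absurd (Finset.mem_univ _) h

/-- permutations in the symplectic group -/
def permSp (F : Type*) [Field F] (σ : Equiv.Perm (Fin n)) : symplecticGroup (Fin n) F := ⟨permMat F σ, permMat_mem σ⟩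

theorem permSp_mulVec (σ : Equiv.Perm (Fin n)) (v : Fin n ⊕ Fin n → F) :
    (permSp F σ : Matrix (Fin n ⊕ Fin n) (Fin n ⊕ Fin n) F) *ᵥ v = v ∘ Sum.map σ σ := permMat_mulVec σ v

theorem ext_mulVec {A B : symplecticGroup (Fin n) F}
    (h : ∀ v, (A : Matrix (Fin n ⊕ Fin n) (Fin n ⊕ Fin n) F) *ᵥ v = (B : Matrix (Fin n ⊕ Fin n) (Fin n ⊕ Fin n) F) *ᵥ v) :
    A = B := by
  apply Subtype.ext
  have h1 : Matrix.toLin' (A : Matrix (Fin n ⊕ Fin n) (Fin n ⊕ Fin n) F) =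
      Matrix.toLin' (B : Matrix (Fin n ⊕ Fin n) (Fin n ⊕ Fin n) F) := LinearMap.ext h
  exact Matrix.toLin'.injective h1

theorem permSp_sq {σ : Equiv.Perm (Fin n)} (h : ∀ i, σ (σ i) = i) : (permSp F σ) ^ 2 = 1 := by
  apply ext_mulVec
  intro v
  rw [pow_two, Submonoid.coe_mul, ← Matrix.mulVec_mulVec, permSp_mulVec, permSp_mulVec]
  show _ = (1 : Matrix (Fin n ⊕ Fin n) (Fin n ⊕ Fin n) F) *ᵥ v
  rw [Matrix.one_mulVec]
  funext x
  rcases x with x | x <;> simp [h]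

theorem permSp_not_center {σ : Equiv.Perm (Fin n)} {i : Fin n} (h : σ i ≠ i) :
    permSp F σ ∉ Subgroup.center (symplecticGroup (Fin n) F) := by
  intro hc
  obtain ⟨a, ha⟩ := (LieClassical.SympCenter.mem_center_iff n _).1 hc
  have h1 := permSp_mulVec (F := F) σ (Pi.single (Sum.inl (σ i)) 1)
  have h2 : (permSp F σ : Matrix (Fin n ⊕ Fin n) (Fin n ⊕ Fin n) F) = a • 1 := ha
  rw [h2, Matrix.smul_mulVec, Matrix.one_mulVec] at h1
  have h3 := congrFun h1 (Sum.inl i)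
  have h4 : (Sum.inl i : Fin n ⊕ Fin n) ≠ Sum.inl (σ i) := fun h5 => h (Sum.inl_injective h5).symm
  simp [h4] at h3

end

section

variable {F : Type*} [Field F] {k : ℕ}

/-- first half -/
def e₁ (k : ℕ) : Fin k → Fin (k + k) := Fin.castAdd k
/-- second half -/
def e₂ (k : ℕ) : Fin k → Fin (k + k) := Fin.natAdd k

theorem e₁_inj : Function.Injective (e₁ k) := Fin.castAdd_injective k k
theorem e₂_inj : Function.Injective (e₂ k) := Fin.natAdd_injective k k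

theorem e_ne (i j : Fin k) : e₁ k i ≠ e₂ k j := castAdd_ne_natAdd i j

theorem se_ne (i j : Fin k ⊕ Fin k) : Sum.map (e₁ k) (e₁ k) i ≠ Sum.map (e₂ k) (e₂ k) j := by
  rcases i with i | i <;> rcases j with j | j <;> intro h
  · exact e_ne i j (Sum.inl_injective h)
  · simp at h
  · simp at h
  · exact e_ne i j (Sum.inr_injective h)

omit [Field F] in
theorem vec_ext {v w : Fin (k + k) ⊕ Fin (k + k) → F} (h1 : v ∘ Sum.map (e₁ k) (e₁ k) = w ∘ Sum.map (e₁ k) (e₁ k))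
    (h2 : v ∘ Sum.map (e₂ k) (e₂ k) = w ∘ Sum.map (e₂ k) (e₂ k)) : v = w := by
  have key : ∀ x : Fin (k + k), v (Sum.inl x) = w (Sum.inl x) ∧ v (Sum.inr x) = w (Sum.inr x) := by
    intro x
    refine Fin.addCases (fun i => ?_) (fun i => ?_) x
    · exact ⟨congrFun h1 (Sum.inl i), congrFun h1 (Sum.inr i)⟩
    · exact ⟨congrFun h2 (Sum.inl i), congrFun h2 (Sum.inr i)⟩
  funext x
  rcases x with x | x
  · exact (key x).1
  · exact (key x).2

/-- `diag(b, 1)` -/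
def d₁ (b : symplecticGroup (Fin k) F) : symplecticGroup (Fin (k + k)) F := spExt (e₁ k) e₁_inj b

/-- `diag(b, b)` -/
def d₂ (b : symplecticGroup (Fin k) F) : symplecticGroup (Fin (k + k)) F :=
  spExt (e₁ k) e₁_inj b * spExt (e₂ k) e₂_inj b

theorem x₁_fst (b : symplecticGroup (Fin k) F) (v : Fin (k + k) ⊕ Fin (k + k) → F) :
    (((spExt (e₁ k) e₁_inj b : symplecticGroup (Fin (k + k)) F) : Matrix (Fin (k + k) ⊕ Fin (k + k)) (Fin (k + k) ⊕ Fin (k + k)) F) *ᵥ v) ∘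
      Sum.map (e₁ k) (e₁ k) = (b : Matrix (Fin k ⊕ Fin k) (Fin k ⊕ Fin k) F) *ᵥ (v ∘ Sum.map (e₁ k) (e₁ k)) :=
  gext_mulVec (e₁_inj.sumMap e₁_inj) _ _

theorem x₁_snd (b : symplecticGroup (Fin k) F) (v : Fin (k + k) ⊕ Fin (k + k) → F) :
    (((spExt (e₁ k) e₁_inj b : symplecticGroup (Fin (k + k)) F) : Matrix (Fin (k + k) ⊕ Fin (k + k)) (Fin (k + k) ⊕ Fin (k + k)) F) *ᵥ v) ∘
      Sum.map (e₂ k) (e₂ k) = v ∘ Sum.map (e₂ k) (e₂ k) :=
  gext_mulVec_comp se_ne _ _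

theorem x₂_snd (b : symplecticGroup (Fin k) F) (v : Fin (k + k) ⊕ Fin (k + k) → F) :
    (((spExt (e₂ k) e₂_inj b : symplecticGroup (Fin (k + k)) F) : Matrix (Fin (k + k) ⊕ Fin (k + k)) (Fin (k + k) ⊕ Fin (k + k)) F) *ᵥ v) ∘
      Sum.map (e₂ k) (e₂ k) = (b : Matrix (Fin k ⊕ Fin k) (Fin k ⊕ Fin k) F) *ᵥ (v ∘ Sum.map (e₂ k) (e₂ k)) :=
  gext_mulVec (e₂_inj.sumMap e₂_inj) _ _

theorem x₂_fst (b : symplecticGroup (Fin k) F) (v : Fin (k + k) ⊕ Fin (k + k) → F) :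
    (((spExt (e₂ k) e₂_inj b : symplecticGroup (Fin (k + k)) F) : Matrix (Fin (k + k) ⊕ Fin (k + k)) (Fin (k + k) ⊕ Fin (k + k)) F) *ᵥ v) ∘
      Sum.map (e₁ k) (e₁ k) = v ∘ Sum.map (e₁ k) (e₁ k) :=
  gext_mulVec_comp (fun i j => (se_ne j i).symm) _ _

theorem d₂_fst (b : symplecticGroup (Fin k) F) (v : Fin (k + k) ⊕ Fin (k + k) → F) :
    ((d₂ b : Matrix (Fin (k + k) ⊕ Fin (k + k)) (Fin (k + k) ⊕ Fin (k + k)) F) *ᵥ v) ∘
      Sum.map (e₁ k) (e₁ k) = (b : Matrix (Fin k ⊕ Fin k) (Fin k ⊕ Fin k) F) *ᵥ (v ∘ Sum.map (e₁ k) (e₁ k)) := by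
  rw [d₂, Submonoid.coe_mul, ← Matrix.mulVec_mulVec, x₁_fst, x₂_fst]

theorem d₂_snd (b : symplecticGroup (Fin k) F) (v : Fin (k + k) ⊕ Fin (k + k) → F) :
    ((d₂ b : Matrix (Fin (k + k) ⊕ Fin (k + k)) (Fin (k + k) ⊕ Fin (k + k)) F) *ᵥ v) ∘
      Sum.map (e₂ k) (e₂ k) = (b : Matrix (Fin k ⊕ Fin k) (Fin k ⊕ Fin k) F) *ᵥ (v ∘ Sum.map (e₂ k) (e₂ k)) := by
  rw [d₂, Submonoid.coe_mul, ← Matrix.mulVec_mulVec, x₁_snd, x₂_snd]

theorem spExt_comm (a b : symplecticGroup (Fin k) F) :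
    Commute (spExt (e₁ k) e₁_inj a) (spExt (e₂ k) e₂_inj b) := by
  apply ext_mulVec
  intro v
  apply vec_ext
  · rw [Submonoid.coe_mul, Submonoid.coe_mul, ← Matrix.mulVec_mulVec, ← Matrix.mulVec_mulVec, x₁_fst, x₂_fst, x₂_fst,
      x₁_fst]
  · rw [Submonoid.coe_mul, Submonoid.coe_mul, ← Matrix.mulVec_mulVec, ← Matrix.mulVec_mulVec, x₁_snd, x₂_snd, x₂_snd,
      x₁_snd]

theorem orderOf_d₁ (b : symplecticGroup (Fin k) F) : orderOf (d₁ b) = orderOf b :=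
  orderOf_injective (spExt (e₁ k) e₁_inj) (spExt_injective _ _) b

theorem orderOf_d₂ (b : symplecticGroup (Fin k) F) : orderOf (d₂ b) = orderOf b := by
  have key : ∀ j : ℕ, (d₂ b) ^ j = 1 ↔ b ^ j = 1 := by
    intro j
    have hp : (d₂ b) ^ j = d₂ (b ^ j) := by
      rw [d₂, (spExt_comm b b).mul_pow, ← map_pow, ← map_pow, d₂]
    rw [hp]
    constructor
    · intro h
      apply ext_mulVec
      intro w
      let v : Fin (k + k) ⊕ Fin (k + k) → F := inc F (Sum.map (e₁ k) (e₁ k)) *ᵥ w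
      have hv : v ∘ Sum.map (e₁ k) (e₁ k) = w := by
        funext i
        exact inc_mulVec (e₁_inj.sumMap e₁_inj) w i
      have h1 := d₂_fst (b ^ j) v
      rw [h, hv] at h1
      rw [← h1]
      show ((1 : Matrix (Fin (k + k) ⊕ Fin (k + k)) (Fin (k + k) ⊕ Fin (k + k)) F) *ᵥ v) ∘ _ =
        (1 : Matrix (Fin k ⊕ Fin k) (Fin k ⊕ Fin k) F) *ᵥ w
      rw [Matrix.one_mulVec, Matrix.one_mulVec, hv]
    · intro h
      rw [h, d₂, map_one, map_one, mul_one]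
  exact orderOf_eq_orderOf_iff.2 key

theorem d₂_fix {b : symplecticGroup (Fin k) F}
    (hb : ∀ v, (b : Matrix (Fin k ⊕ Fin k) (Fin k ⊕ Fin k) F) *ᵥ v = v → v = 0)
    (v : Fin (k + k) ⊕ Fin (k + k) → F)
    (hv : (d₂ b : Matrix (Fin (k + k) ⊕ Fin (k + k)) (Fin (k + k) ⊕ Fin (k + k)) F) *ᵥ v = v) : v = 0 := by
  apply vec_ext
  · have h1 := d₂_fst b v
    rw [hv] at h1
    rw [hb _ h1.symm]
    rfl
  · have h1 := d₂_snd b v
    rw [hv] at h1
    rw [hb _ h1.symm]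
    rfl

theorem d₁_fix (hk : 1 ≤ k) (b : symplecticGroup (Fin k) F) : ∃ v : Fin (k + k) ⊕ Fin (k + k) → F, v ≠ 0 ∧
    (d₁ b : Matrix (Fin (k + k) ⊕ Fin (k + k)) (Fin (k + k) ⊕ Fin (k + k)) F) *ᵥ v = v := by
  let x : Fin (k + k) ⊕ Fin (k + k) := Sum.inl (e₂ k ⟨0, hk⟩)
  refine ⟨Pi.single x 1, ?_, ?_⟩
  · intro h
    have := congrFun h x
    simp at this
  · have h0 : (Pi.single x 1 : Fin (k + k) ⊕ Fin (k + k) → F) ∘ Sum.map (e₁ k) (e₁ k) = 0 := by
      funext i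
      rw [Function.comp_apply, Pi.single_eq_of_ne, Pi.zero_apply]
      exact se_ne i (Sum.inl ⟨0, hk⟩)
    apply vec_ext
    · rw [d₁, x₁_fst, h0, Matrix.mulVec_zero]
    · rw [d₁, x₁_snd]

/-- the permutation of the two halves -/
def flipPerm (k : ℕ) : Equiv.Perm (Fin (k + k)) := finAddFlip

theorem flip_e₁ (i : Fin k) : flipPerm k (e₁ k i) = e₂ k i := finAddFlip_apply_castAdd i k
theorem flip_e₂ (i : Fin k) : flipPerm k (e₂ k i) = e₁ k i := finAddFlip_apply_natAdd i k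

theorem flip_flip (i : Fin (k + k)) : flipPerm k (flipPerm k i) = i := by
  refine Fin.addCases (fun j => ?_) (fun j => ?_) i
  · show flipPerm k (flipPerm k (e₁ k j)) = e₁ k j
    rw [flip_e₁, flip_e₂]
  · show flipPerm k (flipPerm k (e₂ k j)) = e₂ k j
    rw [flip_e₂, flip_e₁]

/-- `diag(b, b)` commutes with the permutation of the blocks -/
theorem d₂_comm (b : symplecticGroup (Fin k) F) : Commute (d₂ b) (permSp F (flipPerm k)) := by
  have h1 : Sum.map (flipPerm k) (flipPerm k) ∘ Sum.map (e₁ k) (e₁ k) = Sum.map (e₂ k) (e₂ k) := by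
    funext i
    rcases i with i | i
    · exact congrArg Sum.inl (flip_e₁ i)
    · exact congrArg Sum.inr (flip_e₁ i)
  have h2 : Sum.map (flipPerm k) (flipPerm k) ∘ Sum.map (e₂ k) (e₂ k) = Sum.map (e₁ k) (e₁ k) := by
    funext i
    rcases i with i | i
    · exact congrArg Sum.inl (flip_e₂ i)
    · exact congrArg Sum.inr (flip_e₂ i)
  apply ext_mulVec
  intro v
  apply vec_ext
  · rw [Submonoid.coe_mul, Submonoid.coe_mul, ← Matrix.mulVec_mulVec, ← Matrix.mulVec_mulVec, permSp_mulVec,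
      permSp_mulVec, d₂_fst, Function.comp_assoc, Function.comp_assoc, h1, d₂_snd]
  · rw [Submonoid.coe_mul, Submonoid.coe_mul, ← Matrix.mulVec_mulVec, ← Matrix.mulVec_mulVec, permSp_mulVec,
      permSp_mulVec, d₂_snd, Function.comp_assoc, Function.comp_assoc, h2, d₂_fst]

/-- a transposition in the second half -/
def tPerm (k : ℕ) (i j : Fin k) : Equiv.Perm (Fin (k + k)) := Equiv.swap (e₂ k i) (e₂ k j)

theorem tPerm_e₁ (i j l : Fin k) : tPerm k i j (e₁ k l) = e₁ k l :=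
  Equiv.swap_apply_of_ne_of_ne (e_ne _ _) (e_ne _ _)

theorem tPerm_e₂ (i j l : Fin k) : tPerm k i j (e₂ k l) = e₂ k (Equiv.swap i j l) := by
  rw [tPerm, e₂_inj.swap_apply]

theorem d₁_comm (b : symplecticGroup (Fin k) F) (i j : Fin k) : Commute (d₁ b) (permSp F (tPerm k i j)) := by
  have h1 : Sum.map (tPerm k i j) (tPerm k i j) ∘ Sum.map (e₁ k) (e₁ k) = Sum.map (e₁ k) (e₁ k) := by
    funext l
    rcases l with l | l
    · exact congrArg Sum.inl (tPerm_e₁ i j l)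
    · exact congrArg Sum.inr (tPerm_e₁ i j l)
  have h2 : Sum.map (tPerm k i j) (tPerm k i j) ∘ Sum.map (e₂ k) (e₂ k) = Sum.map (e₂ k) (e₂ k) ∘
      Sum.map (Equiv.swap i j) (Equiv.swap i j) := by
    funext l
    rcases l with l | l
    · exact congrArg Sum.inl (tPerm_e₂ i j l)
    · exact congrArg Sum.inr (tPerm_e₂ i j l)
  apply ext_mulVec
  intro v
  apply vec_ext
  · rw [Submonoid.coe_mul, Submonoid.coe_mul, ← Matrix.mulVec_mulVec, ← Matrix.mulVec_mulVec, permSp_mulVec,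
      permSp_mulVec, d₁, x₁_fst, Function.comp_assoc, Function.comp_assoc, h1, x₁_fst]
  · rw [Submonoid.coe_mul, Submonoid.coe_mul, ← Matrix.mulVec_mulVec, ← Matrix.mulVec_mulVec, permSp_mulVec,
      permSp_mulVec, d₁, x₁_snd, Function.comp_assoc, Function.comp_assoc, h2, ← Function.comp_assoc,
      ← Function.comp_assoc, x₁_snd]

end

end Cfsg.Agent.H388.Der
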