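import Mathlib
import Cfsg.Agent.H388.Der.Lift
import Cfsg.Agent.H388.Der.PermSp

/-!
# Subgroups of `PSp_{2m}(q)` with all elements of order `r` conjugate up to powers

* `two_of_missing` : an element `y` of odd order missing (up to `Aut`), commuting with a noncentral `w`, `w ^ 2 = 1`;
* `two_of_conj` : `y₁` with, `y₂` without fixed vectors.
-/

set_option autoImplicit false

namespace Cfsg.Agent.H388.Der

open Matrix Cfsg Cfsg.Agent.H439.Der Cfsg.Agent.H876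

section

variable {F : Type} [Field F] {m : ℕ}

theorem two_of_missing {r : ℕ} (hr : Odd r) {y w : Matrix.symplecticGroup (Fin m) F} (hy : y ^ r = 1) (hw : w ^ 2 = 1)
    (hwc : w ∉ Subgroup.center (Matrix.symplecticGroup (Fin m) F)) (hc : Commute y w) {R : Subgroup (PSp m F)}
    (hm : ∀ φ : PSp m F ≃* PSp m F, φ (QuotientGroup.mk y) ∉ R) : Two (PSp m F) R := by
  obtain ⟨k, hk⟩ := hr
  refine ⟨QuotientGroup.mk y, QuotientGroup.mk (y * w), hm, fun φ hφ => hm φ ?_, fun φ hφ => hwc ?_⟩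
  · have h1 : (y * w) ^ (r + 1) = y := by
      rw [hc.mul_pow, pow_succ, hy, one_mul, hk, show 2 * k + 1 + 1 = 2 * (k + 1) by ring, pow_mul, hw, one_pow, mul_one]
    rw [← h1, QuotientGroup.mk_pow, map_pow]
    exact R.pow_mem hφ _
  · have h1 : (QuotientGroup.mk (y * w) : PSp m F) ^ r = 1 := by
      rw [← hφ, ← map_pow, ← QuotientGroup.mk_pow, hy, QuotientGroup.mk_one, map_one]
    rw [← QuotientGroup.mk_pow, hc.mul_pow, hy, one_mul, hk, pow_succ, pow_mul, hw, one_pow, one_mul] at h1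
    exact (QuotientGroup.eq_one_iff _).1 h1

theorem fix_pow {y : Matrix.symplecticGroup (Fin m) F} {v : Fin m ⊕ Fin m → F}
    (hv : (y : Matrix (Fin m ⊕ Fin m) (Fin m ⊕ Fin m) F) *ᵥ v = v) (j : ℕ) :
    ((y ^ j : Matrix.symplecticGroup (Fin m) F) : Matrix (Fin m ⊕ Fin m) (Fin m ⊕ Fin m) F) *ᵥ v = v := by
  induction j with
  | zero =>
    rw [pow_zero]
    show (1 : Matrix (Fin m ⊕ Fin m) (Fin m ⊕ Fin m) F) *ᵥ v = v
    exact Matrix.one_mulVec v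
  | succ j ih => rw [pow_succ, Submonoid.coe_mul, ← Matrix.mulVec_mulVec, hv, ih]

theorem orderOf_mk {r : ℕ} (hr : r.Prime) (hr2 : r ≠ 2) {y : Matrix.symplecticGroup (Fin m) F} (h : orderOf y = r) :
    orderOf (QuotientGroup.mk y : PSp m F) = r := by
  have := Fact.mk hr
  have hy : y ^ r = 1 := by rw [← h]; exact pow_orderOf_eq_one y
  refine orderOf_eq_prime ?_ fun h1 => ?_
  · rw [← QuotientGroup.mk_pow, hy, QuotientGroup.mk_one]
  · have h2 : y = 1 := lift_unique (hr.eq_two_or_odd'.resolve_left hr2) hy (one_pow r)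
      (h1.trans (QuotientGroup.mk_one _).symm)
    rw [h2, orderOf_one] at h
    exact hr.one_lt.ne h

/-- **All elements of order `r` of `R` conjugate up to powers.** -/
theorem two_of_conj [Finite F] (hm : 3 ≤ m) {r : ℕ} (hr : r.Prime) (hr2 : r ≠ 2)
    {y₁ y₂ w₁ w₂ : Matrix.symplecticGroup (Fin m) F} (h1 : orderOf y₁ = r) (h2 : orderOf y₂ = r)
    (hf₁ : ∃ v : Fin m ⊕ Fin m → F, v ≠ 0 ∧ (y₁ : Matrix (Fin m ⊕ Fin m) (Fin m ⊕ Fin m) F) *ᵥ v = v)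
    (hf₂ : ∀ v, (y₂ : Matrix (Fin m ⊕ Fin m) (Fin m ⊕ Fin m) F) *ᵥ v = v → v = 0)
    (hw₁ : w₁ ^ 2 = 1) (hw₂ : w₂ ^ 2 = 1) (hn₁ : w₁ ∉ Subgroup.center (Matrix.symplecticGroup (Fin m) F))
    (hn₂ : w₂ ∉ Subgroup.center (Matrix.symplecticGroup (Fin m) F)) (hc₁ : Commute y₁ w₁) (hc₂ : Commute y₂ w₂)
    {R : Subgroup (PSp m F)}
    (hR : ∀ a b : R, orderOf a = r → orderOf b = r → ∃ (c : R) (j : ℤ), b = c * a ^ j * c⁻¹) :
    Two (PSp m F) R := by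
  classical
  have hro : Odd r := hr.eq_two_or_odd'.resolve_left hr2
  have hy₁ : y₁ ^ r = 1 := by rw [← h1]; exact pow_orderOf_eq_one y₁
  have hy₂ : y₂ ^ r = 1 := by rw [← h2]; exact pow_orderOf_eq_one y₂
  by_cases hA : ∀ φ : PSp m F ≃* PSp m F, φ (QuotientGroup.mk y₁) ∉ R
  · exact two_of_missing hro hy₁ hw₁ hn₁ hc₁ hA
  by_cases hB : ∀ φ : PSp m F ≃* PSp m F, φ (QuotientGroup.mk y₂) ∉ R
  · exact two_of_missing hro hy₂ hw₂ hn₂ hc₂ hB
  exfalso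
  push Not at hA hB
  obtain ⟨φ₁, hφ₁⟩ := hA
  obtain ⟨φ₂, hφ₂⟩ := hB
  have ho : ∀ {y : Matrix.symplecticGroup (Fin m) F} {φ : PSp m F ≃* PSp m F}
      (hy : orderOf y = r) (hm : φ (QuotientGroup.mk y) ∈ R), orderOf (⟨φ (QuotientGroup.mk y), hm⟩ : R) = r := by
    intro y φ hy hm
    rw [Subgroup.orderOf_mk, MulEquiv.orderOf_eq, orderOf_mk hr hr2 hy]
  obtain ⟨c, j, hc⟩ := hR ⟨_, hφ₁⟩ ⟨_, hφ₂⟩ (ho h1 hφ₁) (ho h2 hφ₂)
  have hc' : φ₂ (QuotientGroup.mk y₂) = (c : PSp m F) * (φ₁ (QuotientGroup.mk y₁)) ^ j * (c : PSp m F)⁻¹ :=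
    congrArg Subtype.val hc
  -- a natural exponent
  obtain ⟨n, hn⟩ : ∃ n : ℕ, (φ₁ (QuotientGroup.mk y₁)) ^ j = (φ₁ (QuotientGroup.mk y₁)) ^ n := by
    have hfo : IsOfFinOrder (φ₁ (QuotientGroup.mk y₁)) := by
      rw [← orderOf_pos_iff, MulEquiv.orderOf_eq, orderOf_mk hr hr2 h1]
      exact hr.pos
    have hmem : (φ₁ (QuotientGroup.mk y₁)) ^ j ∈ Subgroup.zpowers (φ₁ (QuotientGroup.mk y₁)) := ⟨j, rfl⟩
    rw [hfo.mem_zpowers_iff_mem_range_orderOf] at hmem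
    obtain ⟨n, -, hn⟩ := Finset.mem_image.1 hmem
    exact ⟨n, hn.symm⟩
  rw [hn] at hc'
  -- the automorphism
  have hψ : (((MulAut.conj (c : PSp m F)).symm.trans φ₁.symm : PSp m F ≃* PSp m F)) (φ₂ (QuotientGroup.mk y₂)) =
      QuotientGroup.mk (y₁ ^ n) := by
    rw [hc', MulEquiv.trans_apply]
    have h3 : (MulAut.conj (c : PSp m F)).symm ((c : PSp m F) * (φ₁ (QuotientGroup.mk y₁)) ^ n * (c : PSp m F)⁻¹) =
        (φ₁ (QuotientGroup.mk y₁)) ^ n := by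
      rw [MulEquiv.symm_apply_eq]
      rfl
    rw [h3, ← map_pow, MulEquiv.symm_apply_apply, QuotientGroup.mk_pow]
  obtain ⟨B, σ, hB⟩ := aut_odd hm hro (φ₂.trans ((MulAut.conj (c : PSp m F)).symm.trans φ₁.symm)) hy₂
    (C := y₁ ^ n) (by rw [← pow_mul, mul_comm, pow_mul, hy₁, one_pow]) hψ
  obtain ⟨v, hv0, hv⟩ := hf₁
  apply hv0
  refine Cfsg.Agent.H81.SaxSp.fix_map (A := spToGL m F y₂) (B := B) (σ := σ) hf₂ v ?_
  rw [← hB]
  exact fix_pow hv n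

end

section

variable {F : Type} [Field F] {k : ℕ}

/-- **The case of `Sp_{4k}(q)`.** -/
theorem two_of_blk [Finite F] (hk : 2 ≤ k) {r : ℕ} (hr : r.Prime) (hr2 : r ≠ 2)
    {b : Matrix.symplecticGroup (Fin k) F} (hb : orderOf b = r)
    (hf : ∀ v, (b : Matrix (Fin k ⊕ Fin k) (Fin k ⊕ Fin k) F) *ᵥ v = v → v = 0)
    {R : Subgroup (PSp (k + k) F)}
    (hR : ∀ a b : R, orderOf a = r → orderOf b = r → ∃ (c : R) (j : ℤ), b = c * a ^ j * c⁻¹) :
    Two (PSp (k + k) F) R := by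
  have hi : (⟨0, by omega⟩ : Fin k) ≠ ⟨1, by omega⟩ := by
    intro h
    exact absurd (congrArg Fin.val h) (by norm_num)
  refine two_of_conj (by omega) hr hr2 (y₁ := d₁ b) (y₂ := d₂ b) (w₁ := permSp F (tPerm k ⟨0, by omega⟩ ⟨1, by omega⟩))
    (w₂ := permSp F (flipPerm k)) (by rw [orderOf_d₁, hb]) (by rw [orderOf_d₂, hb]) (d₁_fix (by omega) b)
    (d₂_fix hf) (permSp_sq fun i => ?_) (permSp_sq flip_flip) (permSp_not_center (i := e₂ k ⟨0, by omega⟩) ?_)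
    (permSp_not_center (i := e₁ k ⟨0, by omega⟩) ?_) (d₁_comm b _ _) (d₂_comm b) hR
  · show Equiv.swap _ _ (Equiv.swap _ _ i) = i
    rw [← Equiv.Perm.mul_apply, Equiv.swap_mul_self, Equiv.Perm.one_apply]
  · rw [tPerm_e₂, Equiv.swap_apply_left]
    intro h
    exact hi (e₂_inj h).symm
  · rw [flip_e₁]
    exact (e_ne _ _).symm

/-- the element `diag(b, b)` missing -/
theorem two_of_blk' (hk : 2 ≤ k) {r : ℕ} (hr : Odd r)
    {b : Matrix.symplecticGroup (Fin k) F} (hb : b ^ r = 1) {R : Subgroup (PSp (k + k) F)}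
    (hm : ∀ φ : PSp (k + k) F ≃* PSp (k + k) F, φ (QuotientGroup.mk (d₂ b)) ∉ R) : Two (PSp (k + k) F) R := by
  refine two_of_missing hr (y := d₂ b) (w := permSp F (flipPerm k)) ?_ (permSp_sq flip_flip)
    (permSp_not_center (i := e₁ k ⟨0, by omega⟩) ?_) (d₂_comm b) hm
  · apply orderOf_dvd_iff_pow_eq_one.1
    rw [orderOf_d₂]
    exact orderOf_dvd_of_pow_eq_one hb
  · rw [flip_e₁]
    exact (e_ne _ _).symm

end

end Cfsg.Agent.H388.Der
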