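import Mathlib
import Cfsg.Agent.H388.Der.TwoCyc
import Cfsg.Agent.H901.SaxSpRow

/-!
# Fixed point free elements of odd prime order of `Sp_{2k}(q)`; orthogonal subgroups of minus type
-/

set_option autoImplicit false
set_option linter.style.haveILetI false

namespace Cfsg.Agent.H388.Der

open Matrix Cfsg Cfsg.Geo Cfsg.Agent.H439.Der Cfsg.Agent.H876 Cfsg.Agent.H262.El

section

variable {F : Type} [Field F] [Fintype F]

/-- primes `r` with `ord_r(q) = 2k` -/
theorem blk_of_od {k r : ℕ} (hk : 1 ≤ k) (hr : Od (Fintype.card F) (2 * k) r) :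
    ∃ b : Matrix.symplecticGroup (Fin k) F, orderOf b = r ∧
      ∀ v, (b : Matrix (Fin k ⊕ Fin k) (Fin k ⊕ Fin k) F) *ᵥ v = v → v = 0 := by
  have := Fact.mk hr.prime
  haveI : Finite (Matrix.symplecticGroup (Fin k) F) :=
    Finite.of_injective (fun A => (A : Matrix (Fin k ⊕ Fin k) (Fin k ⊕ Fin k) F)) Subtype.val_injective
  have h1 : r ∣ Nat.card (Matrix.symplecticGroup (Fin k) F) := by
    rw [Cfsg.Agent.S0245.result (F := F) rfl k]
    refine dvd_mul_of_dvd_right (dvd_trans ?_ (Finset.dvd_prod_of_mem _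
      (Finset.mem_range.2 (show k - 1 < k by omega)))) _
    rw [show k - 1 + 1 = k by omega]
    exact (hr.dvd_iff Fintype.card_pos _).2 dvd_rfl
  obtain ⟨b, hb⟩ := exists_prime_orderOf_dvd_card' r h1
  refine ⟨b, hb, fun v hv => ?_⟩
  have hbr : (spToGL k F b) ^ r = 1 := by
    rw [← map_pow, ← hb, pow_orderOf_eq_one, map_one]
  have hb1 : spToGL k F b ≠ 1 := by
    intro h
    have h2 : b = 1 := spToGL_injective (h.trans (map_one _).symm)
    rw [h2, orderOf_one] at hb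
    exact hr.prime.one_lt.ne hb
  have hι : Fintype.card (Fin k ⊕ Fin k) = 2 * k := by rw [Fintype.card_sum, Fintype.card_fin, two_mul]
  have hir := irr_of_od (ι := Fin k ⊕ Fin k) (by rw [hι]; exact hr) hbr hb1
    (LinearMap.eqLocus (Matrix.toLin' ((spToGL k F b : GL (Fin k ⊕ Fin k) F) : Matrix (Fin k ⊕ Fin k) (Fin k ⊕ Fin k) F))
      LinearMap.id) (fun w hw => by
        rw [LinearMap.mem_eqLocus] at hw ⊢
        have h3 : ((spToGL k F b : GL (Fin k ⊕ Fin k) F) : Matrix (Fin k ⊕ Fin k) (Fin k ⊕ Fin k) F) *ᵥ w = w := hw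
        rw [h3]
        exact hw)
  rcases hir with h | h
  · have h4 : v ∈ (⊥ : Submodule F (Fin k ⊕ Fin k → F)) := by
      rw [← h, LinearMap.mem_eqLocus]
      exact hv
    exact (Submodule.mem_bot F).1 h4
  · exfalso
    apply hb1
    apply Units.ext
    apply Matrix.toLin'.injective
    refine LinearMap.ext fun w => ?_
    have h4 : w ∈ (⊤ : Submodule F (Fin k ⊕ Fin k → F)) := trivial
    rw [← h, LinearMap.mem_eqLocus] at h4
    rw [h4, Units.val_one, Matrix.toLin'_one]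

end

/-! ### `k = 3`, `q = 2` -/

/-- the companion matrix of `x ^ 3 + x + 1` and its inverse transpose -/
def B7 : Matrix (Fin 3 ⊕ Fin 3) (Fin 3 ⊕ Fin 3) (ZMod 2) :=
  Matrix.fromBlocks !![0,0,1; 1,0,1; 0,1,0] 0 0 !![1,0,1; 1,0,0; 0,1,0]

set_option maxRecDepth 100000 in
theorem B7_props : B7 * Matrix.J (Fin 3) (ZMod 2) * B7.transpose = Matrix.J (Fin 3) (ZMod 2) ∧ B7 ^ 7 = 1 ∧ B7 ≠ 1 ∧
    B7 ^ 6 + B7 ^ 5 + B7 ^ 4 + B7 ^ 3 + B7 ^ 2 + B7 + 1 = 0 := by
  decide +kernel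

theorem blk_seven {F : Type} [Field F] [Fintype F] (hF : Fintype.card F = 2) :
    ∃ b : Matrix.symplecticGroup (Fin 3) F, orderOf b = 7 ∧
      ∀ v, (b : Matrix (Fin 3 ⊕ Fin 3) (Fin 3 ⊕ Fin 3) F) *ᵥ v = v → v = 0 := by
  have : Fact (Nat.Prime 7) := ⟨by norm_num⟩
  have hchar : CharP F 2 := by
    obtain ⟨p, hp⟩ := CharP.exists F
    have hpp : p.Prime := CharP.char_is_prime F p
    obtain ⟨n, -, hn⟩ := FiniteField.card F p
    rw [hF] at hn
    have h2 : p ∣ 2 := by rw [hn]; exact dvd_pow_self p n.ne_zero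
    have h3 : p = 2 := (Nat.prime_dvd_prime_iff_eq hpp Nat.prime_two).1 h2
    rw [← h3]
    exact hp
  let f : ZMod 2 →+* F := ZMod.castHom dvd_rfl F
  have hmul : ∀ A B : Matrix (Fin 3 ⊕ Fin 3) (Fin 3 ⊕ Fin 3) (ZMod 2), (A * B).map f = A.map f * B.map f :=
    fun A B => Matrix.map_mul
  have hone : (1 : Matrix (Fin 3 ⊕ Fin 3) (Fin 3 ⊕ Fin 3) (ZMod 2)).map f = 1 := Matrix.map_one f (map_zero f) (map_one f)
  have hJ : (Matrix.J (Fin 3) (ZMod 2)).map f = Matrix.J (Fin 3) F := by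
    ext i j
    rw [Matrix.map_apply, J_apply', J_apply']
    split_ifs
    · rw [map_neg, map_one]
    · rw [map_one]
    · rw [map_zero]
  have hmem : B7.map f ∈ Matrix.symplecticGroup (Fin 3) F := by
    rw [SymplecticGroup.mem_iff]
    have h1 : (B7 * Matrix.J (Fin 3) (ZMod 2) * B7.transpose).map f = (Matrix.J (Fin 3) (ZMod 2)).map f := by
      rw [B7_props.1]
    rw [hmul, hmul, hJ] at h1
    exact h1
  have h7 : (B7.map f) ^ 7 = 1 := by
    have h1 : (B7 ^ 7).map f = (1 : Matrix (Fin 3 ⊕ Fin 3) (Fin 3 ⊕ Fin 3) (ZMod 2)).map f := by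
      rw [B7_props.2.1]
    rw [hone, Matrix.map_pow] at h1
    exact h1
  have h1 : B7.map f ≠ 1 := by
    intro h
    rw [← hone] at h
    exact B7_props.2.2.1 (Matrix.map_injective f.injective h)
  refine ⟨⟨B7.map f, hmem⟩, orderOf_eq_prime (Subtype.ext (by rw [SubmonoidClass.coe_pow]; exact h7))
    (fun h => h1 (congrArg Subtype.val h)), fun v hv => ?_⟩
  have hv' : B7.map f *ᵥ v = v := hv
  have hp : ∀ j : ℕ, (B7.map f) ^ j *ᵥ v = v := by
    intro j
    induction j with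
    | zero => rw [pow_zero, Matrix.one_mulVec]
    | succ j ih => rw [pow_succ, ← Matrix.mulVec_mulVec, hv', ih]
  have h2 := congrArg (fun M => M.map f) B7_props.2.2.2
  have hadd : ∀ A B : Matrix (Fin 3 ⊕ Fin 3) (Fin 3 ⊕ Fin 3) (ZMod 2), (A + B).map f = A.map f + B.map f :=
    fun A B => Matrix.map_add f (fun a b => map_add f a b) A B
  simp only [hadd, hone, Matrix.map_pow] at h2
  have h3 : (0 : Matrix (Fin 3 ⊕ Fin 3) (Fin 3 ⊕ Fin 3) (ZMod 2)).map f = 0 := Matrix.map_zero f (map_zero f)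
  rw [h3] at h2
  have h4 := congrArg (fun M => M *ᵥ v) h2
  simp only [Matrix.add_mulVec, hp, hv', Matrix.one_mulVec, Matrix.zero_mulVec] at h4
  have h5 : v + v = 0 := by
    funext i
    exact CharTwo.add_self_eq_zero (v i)
  rw [h5, zero_add, h5, zero_add, h5, zero_add] at h4
  exact h4

/-! ### orthogonal groups of minus type -/

section

variable {F : Type} [Field F] [Fintype F]

omit [Fintype F] in
theorem nondeg_symp {n : ℕ} {Q : QuadraticForm F (Fin n ⊕ Fin n → F)}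
    (hQ1 : ∀ u v : Fin n ⊕ Fin n → F, QuadraticMap.polar ⇑Q u v = Cfsg.sympForm n F u v) :
    Cfsg.Agent.LieClassical.OrthCore.Nondeg Q := by
  intro x hx
  have h1 : ∀ w : Fin n ⊕ Fin n → F, x ⬝ᵥ w = 0 := by
    intro w
    have h2 := hx (Matrix.J (Fin n) F *ᵥ (-w))
    rw [hQ1, Cfsg.sympForm, Matrix.mulVec_mulVec, Matrix.J_squared, Matrix.neg_mulVec, Matrix.one_mulVec,
      neg_neg] at h2
    exact h2
  exact dotProduct_eq_zero_iff.1 h1

/-- **orthogonal subgroups of minus type** -/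
theorem two_minus {k r : ℕ} (hk : 2 ≤ k) (hr : r.Prime) (hr2 : r ≠ 2)
    (hnum : ((Fintype.card F : ZMod r) ^ (k + k) + 1) * ((Fintype.card F : ZMod r) ^ (k + k - 1) - 1) ≠ 0)
    {b : Matrix.symplecticGroup (Fin k) F} (hb : orderOf b = r)
    (hf : ∀ v, (b : Matrix (Fin k ⊕ Fin k) (Fin k ⊕ Fin k) F) *ᵥ v = v → v = 0)
    {R : Subgroup (PSp (k + k) F)} (hR : Cfsg.Agent.H901.SaxSp.InOMinus (k + k) F (pre R)) :
    Two (PSp (k + k) F) R := by
  obtain ⟨-, -, Q, hpol, hQP, hle⟩ := hR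
  have hro : Odd r := hr.eq_two_or_odd'.resolve_left hr2
  have hbr : b ^ r = 1 := by rw [← hb]; exact pow_orderOf_eq_one b
  refine two_of_blk' hk hro hbr fun φ hφ => ?_
  have hd2 : (d₂ b) ^ r = 1 := by
    apply orderOf_dvd_iff_pow_eq_one.1
    rw [orderOf_d₂, hb]
  obtain ⟨C, hC, hCr⟩ := exists_lift (F := F) (m := k + k) hro (x := φ (QuotientGroup.mk (d₂ b))) (by
    rw [← map_pow, ← QuotientGroup.mk_pow, hd2, QuotientGroup.mk_one, map_one])
  obtain ⟨B, σ, hB⟩ := aut_odd (by omega) hro φ hd2 hCr hC.symm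
  have hCf : ∀ v, ((spToGL (k + k) F C : GL (Fin (k + k) ⊕ Fin (k + k)) F) :
      Matrix (Fin (k + k) ⊕ Fin (k + k)) (Fin (k + k) ⊕ Fin (k + k)) F) *ᵥ v = v → v = 0 := by
    rw [hB]
    exact Cfsg.Agent.H81.SaxSp.fix_map (A := spToGL (k + k) F (d₂ b)) (B := B) (σ := σ) (d₂_fix hf)
  rw [← hC, ← mem_pre] at hφ
  have hsim : spToGL (k + k) F C ∈ quadSimilarityGroup (⇑Q) := by
    refine ⟨1, fun v => ?_⟩
    rw [Units.val_one, one_mul]
    exact (Cfsg.Agent.ClassicalGeometry.Reflection.mem_isometryGroup_iff _ _).1 (hle hφ) v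
  have hι : Fintype.card (Fin (k + k) ⊕ Fin (k + k)) = 2 * (k + k) := by
    rw [Fintype.card_sum, Fintype.card_fin, two_mul]
  rcases quad_dichotomy (m := k + k) (by omega) hι hr
    (Cfsg.Agent.H883.Bridge.isNondegenerateQuadraticForm (nondeg_symp hpol)) hsim
    (by rw [← map_pow, hCr, map_one]) hCf with ⟨⟨Q', hQ', hP⟩, -⟩ | ⟨-, h⟩
  · have : Q' = Q := DFunLike.coe_injective hQ'
    rw [this] at hP
    exact hQP hP
  · exact hnum h

end

end Cfsg.Agent.H388.Der
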