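import Mathlib

/-!
# Powers of a matrix of prime order that are semilinear images of it

`sub_one_le` : `A` of prime order `v` over a finite field `F`, every power `A ^ k`, `1 ≤ k < v`, conjugate to a Galois
image of `A`: then `v - 1 ≤ |Aut F| * dim`.
-/

set_option autoImplicit false

namespace Cfsg.Agent.H388.Der

open Polynomial

theorem exists_eig {Ω : Type*} [Field Ω] [IsAlgClosed Ω] {ι : Type*} [Fintype ι] [DecidableEq ι] {v : ℕ}
    (hv : (v : Ω) ≠ 0) {A : Matrix ι ι Ω} (hA : A ^ v = 1) (h1 : A ≠ 1) :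
    ∃ l ∈ spectrum Ω A, l ^ v = 1 ∧ l ≠ 1 := by
  have hnt : Nontrivial (Matrix ι ι Ω) := ⟨⟨A, 1, h1⟩⟩
  set P : Polynomial Ω := ∑ i ∈ Finset.range v, X ^ i with hP
  have hPA : aeval A P * (A - 1) = 0 := by
    rw [hP, map_sum]
    simp only [map_pow, aeval_X]
    rw [geom_sum_mul, hA, sub_self]
  have h0 : (0 : Ω) ∈ spectrum Ω (aeval A P) := by
    rw [spectrum.zero_mem_iff]
    intro hu
    apply h1
    have h2 := (hu.mul_right_eq_zero).1 hPA
    exact sub_eq_zero.1 h2
  have hne : (spectrum Ω A).Nonempty := spectrum.nonempty_of_isAlgClosed_of_finiteDimensional Ω A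
  rw [spectrum.map_polynomial_aeval_of_nonempty A P hne] at h0
  obtain ⟨l, hl, hl0⟩ := h0
  have hl0' : ∑ i ∈ Finset.range v, l ^ i = 0 := by
    have : eval l P = 0 := hl0
    rw [hP, eval_finset_sum] at this
    simpa using this
  refine ⟨l, hl, ?_, ?_⟩
  · have h3 := geom_sum_mul l v
    rw [hl0', zero_mul] at h3
    exact sub_eq_zero.1 h3.symm
  · rintro rfl
    apply hv
    simpa using hl0'

theorem sub_one_le {F : Type*} [Field F] [Finite F] {ι : Type*} [Fintype ι] [DecidableEq ι] {v : ℕ} (hv : v.Prime)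
    (hvF : (v : F) ≠ 0) {A : Matrix ι ι F} (hA : A ^ v = 1) (h1 : A ≠ 1)
    (h : ∀ k, 1 ≤ k → k < v → ∃ (B C : Matrix ι ι F) (σ : F ≃+* F), B * C = 1 ∧ A ^ k = B * A.map σ * C) :
    v - 1 ≤ Nat.card (F ≃+* F) * Fintype.card ι := by
  classical
  let Ω := AlgebraicClosure F
  let f : F →+* Ω := algebraMap F Ω
  have hfin : Finite (F ≃+* F) := Finite.of_injective (fun f : F ≃+* F => (f : F → F)) DFunLike.coe_injective
  have hfA : (A.map f) ^ v = 1 := by
    rw [← Matrix.map_pow, hA]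
    exact Matrix.map_one f (map_zero f) (map_one f)
  have hf1 : A.map f ≠ 1 := by
    intro h2
    apply h1
    have h3 : A.map f = (1 : Matrix ι ι F).map f := by
      rw [h2]; exact (Matrix.map_one f (map_zero f) (map_one f)).symm
    exact Matrix.map_injective f.injective h3
  have hvΩ : ((v : ℕ) : Ω) ≠ 0 := by
    intro h2
    apply hvF
    apply f.injective
    rw [map_natCast, map_zero]
    exact h2
  obtain ⟨l, hl, hlv, hl1⟩ := exists_eig hvΩ hfA hf1
  have hol : orderOf l = v := by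
    rcases (Nat.dvd_prime hv).1 (orderOf_dvd_of_pow_eq_one hlv) with h2 | h2
    · exact absurd (orderOf_eq_one_iff.1 h2) hl1
    · exact h2
  let ext : (F ≃+* F) → (Ω ≃+* Ω) := fun σ => IsAlgClosure.equivOfEquiv Ω Ω σ
  have hext : ∀ (σ : F ≃+* F) (x : F), ext σ (f x) = f (σ x) := fun σ x => by
    exact IsAlgClosure.equivOfEquiv_algebraMap Ω Ω σ x
  let S : Finset Ω := (A.map f).charpoly.roots.toFinset
  have hne0 : (A.map f).charpoly ≠ 0 := (Matrix.charpoly_monic _).ne_zero
  have hS : S.card ≤ Fintype.card ι := by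
    refine (Multiset.toFinset_card_le _).trans ((Polynomial.card_roots' _).trans ?_)
    rw [Matrix.charpoly_natDegree_eq_dim]
  have key : ∀ k, 1 ≤ k → k < v → ∃ σ : F ≃+* F, (ext σ).symm (l ^ k) ∈ S := by
    intro k hk1 hkv
    obtain ⟨B, C, σ, hBC, hk⟩ := h k hk1 hkv
    refine ⟨σ, ?_⟩
    have h2 : l ^ k ∈ spectrum Ω ((A.map f) ^ k) := spectrum.pow_mem_pow _ _ hl
    have hCB : C * B = 1 := mul_eq_one_comm.1 hBC
    have h3 : (A.map f) ^ k = (B.map f) * ((A.map σ).map f) * (C.map f) := by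
      rw [← Matrix.map_pow, hk, Matrix.map_mul, Matrix.map_mul]
    have hu1 : B.map f * C.map f = 1 := by
      rw [← Matrix.map_mul, hBC]; exact Matrix.map_one f (map_zero f) (map_one f)
    have hu2 : C.map f * B.map f = 1 := by
      rw [← Matrix.map_mul, hCB]; exact Matrix.map_one f (map_zero f) (map_one f)
    let U : (Matrix ι ι Ω)ˣ := ⟨B.map f, C.map f, hu1, hu2⟩
    rw [h3, show (B.map f) * ((A.map σ).map f) * (C.map f) = (U : Matrix ι ι Ω) * ((A.map σ).map f) *
      ((U⁻¹ : (Matrix ι ι Ω)ˣ) : Matrix ι ι Ω) from rfl, spectrum.units_conjugate] at h2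
    rw [Matrix.mem_spectrum_iff_isRoot_charpoly] at h2
    have h4 : (A.map σ).map f = (A.map f).map (ext σ : Ω →+* Ω) := by
      ext i j
      rw [Matrix.map_apply, Matrix.map_apply, Matrix.map_apply, Matrix.map_apply]
      exact (hext σ (A i j)).symm
    rw [h4, Matrix.charpoly_map] at h2
    rw [Multiset.mem_toFinset, Polynomial.mem_roots hne0]
    have h5 : l ^ k = (ext σ : Ω →+* Ω) ((ext σ).symm (l ^ k)) := by
      show l ^ k = ext σ ((ext σ).symm (l ^ k))
      rw [RingEquiv.apply_symm_apply]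
    rw [h5] at h2
    rw [Polynomial.IsRoot.def, Polynomial.eval_map, Polynomial.eval₂_hom] at h2
    have h6 : (ext σ : Ω →+* Ω) (eval ((ext σ).symm (l ^ k)) (A.map f).charpoly) = (ext σ : Ω →+* Ω) 0 := by
      rw [h2, map_zero]
    exact (ext σ).injective h6
  have hkey : ∀ k : Fin (v - 1), ∃ σ : F ≃+* F, (ext σ).symm (l ^ ((k : ℕ) + 1)) ∈ S := fun k =>
    key _ (by omega) (by have := k.2; omega)
  choose σ hσ using hkey
  have hinj : Function.Injective (fun k : Fin (v - 1) =>
      ((σ k, (⟨(ext (σ k)).symm (l ^ ((k : ℕ) + 1)), hσ k⟩ : S)) : (F ≃+* F) × S)) := by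
    intro a b hab
    simp only [Prod.mk.injEq, Subtype.mk.injEq] at hab
    obtain ⟨h2, h3⟩ := hab
    rw [h2] at h3
    have h4 := (ext (σ b)).symm.injective h3
    have hl0 : l ≠ 0 := by
      rintro rfl
      rw [zero_pow hv.ne_zero] at hlv
      exact zero_ne_one hlv
    have h5 : ((a : ℕ) + 1) % v = ((b : ℕ) + 1) % v := by
      have hu : (Units.mk0 l hl0) ^ ((a : ℕ) + 1) = (Units.mk0 l hl0) ^ ((b : ℕ) + 1) := Units.ext (by
        rw [Units.val_pow_eq_pow_val, Units.val_pow_eq_pow_val]; exact h4)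
      have := pow_inj_mod.1 hu
      rwa [← orderOf_units, Units.val_mk0, hol] at this
    have ha := a.2
    have hb := b.2
    rw [Nat.mod_eq_of_lt (by omega), Nat.mod_eq_of_lt (by omega)] at h5
    exact Fin.ext (by omega)
  have h7 := Nat.card_le_card_of_injective _ hinj
  rw [Nat.card_eq_fintype_card, Fintype.card_fin, Nat.card_prod, Nat.card_eq_fintype_card (α := S), Fintype.card_coe] at h7
  exact h7.trans (Nat.mul_le_mul_left _ hS)

end Cfsg.Agent.H388.Der
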