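import Mathlib
import Cfsg.Agent.H388.Der.Eig
import Cfsg.Agent.H388.Der.Lift
import Cfsg.Agent.H377.SpElt
import Cfsg.Agent.Lib.FieldAutCard

/-!
# `NSC (PSp_{2m}(q))`, `m ≥ 3`, `(m, q) ≠ (3, 2)`
-/

set_option autoImplicit false

namespace Cfsg.Agent.H388.Der

open Cfsg Cfsg.Agent.H439.Der Cfsg.Agent.H377 Cfsg.Agent.H94.PG Cfsg.Agent.H876

theorem not_SC_of_adj {G : Type*} [Group G] [Finite G] {a b : ℕ} (h : Adj G a b) : ¬ SC G a := by
  obtain ⟨ha, hb, hab, x, y, hx, hy, hc⟩ := h
  exact not_SC_of_commute ha hb hab hx hy hc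

section

variable {F : Type} [Field F] {m : ℕ}

/-- the bound from the eigenvalues -/
theorem sc_bound [Finite F] (hm : 3 ≤ m) {v : ℕ} (hv : v.Prime) (hv2 : v ≠ 2) (hvF : (v : F) ≠ 0)
    (hd : v ∣ Nat.card (PSp m F)) (h : SC (PSp m F) v) : v - 1 ≤ Nat.card (F ≃+* F) * (2 * m) := by
  have := Fact.mk hv
  have hvo : Odd v := hv.eq_two_or_odd'.resolve_left hv2
  haveI : Finite (Matrix.symplecticGroup (Fin m) F) :=
    Finite.of_injective (fun A => (A : Matrix (Fin m ⊕ Fin m) (Fin m ⊕ Fin m) F)) Subtype.val_injective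
  haveI : Finite (PSp m F) := Quotient.finite _
  obtain ⟨x, hx⟩ := exists_prime_orderOf_dvd_card' v hd
  obtain ⟨A, hA, hAv⟩ := exists_lift hvo (by rw [← hx]; exact pow_orderOf_eq_one x)
  have hAm : (A : Matrix (Fin m ⊕ Fin m) (Fin m ⊕ Fin m) F) ^ v = 1 := by
    rw [← SubmonoidClass.coe_pow, hAv]; rfl
  have hA1 : (A : Matrix (Fin m ⊕ Fin m) (Fin m ⊕ Fin m) F) ≠ 1 := by
    intro h1
    have h2 : A = 1 := Subtype.ext h1
    rw [h2, QuotientGroup.mk_one] at hA
    rw [← hA, orderOf_one] at hx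
    exact hv.one_lt.ne hx
  have key := sub_one_le hv hvF hAm hA1 (fun k hk1 hkv => by
    have ho : orderOf (x ^ k) = v := by
      rw [Nat.Coprime.orderOf_pow, hx]
      rw [hx]
      exact (Nat.Prime.coprime_iff_not_dvd hv).2 fun h2 => by
        have := Nat.le_of_dvd (by omega) h2
        omega
    obtain ⟨φ, hφ⟩ := h x (x ^ k) (by rw [hx]) (by rw [ho])
    have h2 : φ (QuotientGroup.mk A) = (QuotientGroup.mk (A ^ k) : PSp m F) := by
      rw [hA, hφ, QuotientGroup.mk_pow, hA]
    obtain ⟨B, σ, h3⟩ := aut_odd hm hvo φ hAv (C := A ^ k) (by rw [← pow_mul, mul_comm, pow_mul, hAv, one_pow]) h2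
    refine ⟨(B : Matrix _ _ F), ((B⁻¹ : GL (Fin m ⊕ Fin m) F) : Matrix _ _ F), σ, ?_, ?_⟩
    · rw [← Units.val_mul, mul_inv_cancel, Units.val_one]
    · rw [← SubmonoidClass.coe_pow]
      exact congrArg Units.val h3)
  rwa [Fintype.card_sum, Fintype.card_fin, ← two_mul] at key

theorem three_pow {n : ℕ} (hn : 3 ≤ n) : 4 * n + 3 < 3 ^ n := by
  induction n, hn using Nat.le_induction with
  | base => norm_num
  | succ n hn ih => rw [pow_succ]; omega

theorem two_pow' {n : ℕ} (hn : 4 ≤ n) : 2 * n + 3 < 2 ^ n := by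
  induction n, hn using Nat.le_induction with
  | base => norm_num
  | succ n hn ih => rw [pow_succ]; omega

/-- **no prime is `SC`** -/
theorem nsc_psp [Fintype F] (hm : 3 ≤ m) (hex : ¬ (m = 3 ∧ Fintype.card F = 2)) : NSC (PSp m F) := by
  classical
  intro v hv hd
  haveI : Finite (Matrix.symplecticGroup (Fin m) F) :=
    Finite.of_injective (fun A => (A : Matrix (Fin m ⊕ Fin m) (Fin m ⊕ Fin m) F)) Subtype.val_injective
  haveI : Finite (PSp m F) := Quotient.finite _
  obtain ⟨p, _⟩ := CharP.exists F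
  haveI : Fact p.Prime := ⟨CharP.char_is_prime F p⟩
  have hp : p.Prime := Fact.out
  obtain ⟨f, -, hf⟩ := FiniteField.card F p
  have hcard : Nat.card F = p ^ (f : ℕ) := by rw [Nat.card_eq_fintype_card, hf]
  have hfp : 0 < (f : ℕ) := f.pos
  by_cases hv2 : v = 2
  · subst hv2
    by_cases hp2 : p = 2
    · subst hp2
      -- an odd prime divisor of `q + 1`
      obtain ⟨u, hu, hud⟩ := Nat.exists_prime_and_dvd (n := Nat.card F + 1) (by
        have := Nat.card_pos (α := F); omega)
      have hu2 : u ≠ 2 := by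
        rintro rfl
        rw [hcard] at hud
        have h1 : 2 ∣ 2 ^ (f : ℕ) := dvd_pow_self 2 f.ne_zero
        omega
      refine not_SC_of_adj (psp_adj_two_of_dvd (F := F) (m := m) (i := 1) le_rfl (by omega) hu hu2 ?_).symm
      have h1 := Nat.sq_sub_sq (Nat.card F) 1
      rw [one_pow] at h1
      rw [mul_one, h1]
      exact hud.mul_right _
    · exact not_SC_of_adj (psp_adj_two_of_char (F := F) (m := m) (by omega) hp hp2 (by
        rw [hcard]; exact dvd_pow_self p f.ne_zero)).symm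
  by_cases hadj : Adj (PSp m F) v 2
  · exact not_SC_of_adj hadj
  obtain ⟨h1, h2⟩ := psp_info (by omega) hv hv2 hd hadj
  have hvo : Odd v := hv.eq_two_or_odd'.resolve_left hv2
  -- a torus element of order `N`
  have hfm : 3 ≤ (f : ℕ) * m := le_trans hm (Nat.le_mul_of_pos_left m hfp)
  have hqm : Nat.card F ^ m = p ^ ((f : ℕ) * m) := by rw [hcard, ← pow_mul]
  have hvF : (v : F) ≠ 0 := by
    intro h0
    have h3 : p ∣ v := (CharP.cast_eq_zero_iff F p v).1 h0
    have h4 : p = v := (Nat.prime_dvd_prime_iff_eq hp hv).1 h3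
    have h5 : v ∣ Nat.card F ^ m := by
      rw [hcard, ← h4]
      exact dvd_pow (dvd_pow_self p f.ne_zero) (by omega)
    rcases h1 with h1 | h1
    · have h6 : v ∣ 1 := by
        have h7 := (Nat.dvd_sub h5 h1)
        rwa [Nat.sub_sub_self (Nat.one_le_pow _ _ Nat.card_pos)] at h7
      exact hv.one_lt.ne' (Nat.dvd_one.1 h6)
    · have h6 : v ∣ 1 := (Nat.dvd_add_right h5).1 h1
      exact hv.one_lt.ne' (Nat.dvd_one.1 h6)
  have hmain : ∃ (N : ℕ) (g : PSp m F), orderOf g = N ∧ v ∣ N ∧ 2 * ((f : ℕ) * m) + 1 < N := by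
    by_cases hp2 : p = 2
    · subst hp2
      have h4 : 4 ≤ (f : ℕ) * m := by
        by_contra hcon
        have h5 : (f : ℕ) * m = 3 := by omega
        have h6 : m = 3 := by
          have h7 : m ∣ 3 := by rw [← h5]; exact Dvd.intro_left _ rfl
          have := Nat.le_of_dvd (by norm_num) h7
          omega
        have h7 : (f : ℕ) = 1 := by
          rw [h6] at h5
          omega
        apply hex
        refine ⟨h6, ?_⟩
        rw [hf, h7, pow_one]
      have h5 := two_pow' h4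
      have heven : Even (Nat.card F ^ m) := by
        rw [hqm]
        exact (Nat.even_pow.2 ⟨even_two, by omega⟩)
      rcases h1 with h1 | h1
      · have hodd : Odd (Nat.card F ^ m - 1) := Nat.Even.sub_odd (Nat.one_le_pow _ _ Nat.card_pos) heven odd_one
        obtain ⟨g, hg⟩ := exists_psp_tor_plus (F := F) (m := m) (by omega) (N := Nat.card F ^ m - 1) (by
          rw [hqm]; omega) (Or.inl ⟨hodd, dvd_rfl⟩)
        exact ⟨_, g, hg, h1, by rw [hqm]; omega⟩
      · have hodd : Odd (Nat.card F ^ m + 1) := heven.add_one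
        obtain ⟨g, hg⟩ := exists_psp_tor_minus (F := F) (m := m) (by omega) (N := Nat.card F ^ m + 1) (by
          omega) (Or.inl ⟨hodd, dvd_rfl⟩)
        exact ⟨_, g, hg, h1, by rw [hqm]; omega⟩
    · have h3 : 3 ≤ p := by
        have := hp.two_le
        omega
      have h5 : 4 * ((f : ℕ) * m) + 3 < p ^ ((f : ℕ) * m) :=
        lt_of_lt_of_le (three_pow hfm) (Nat.pow_le_pow_left h3 _)
      have hodd : Odd (Nat.card F ^ m) := by
        rw [hqm]
        exact (hp.odd_of_ne_two hp2).pow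
      have hco : Nat.Coprime v 2 := Nat.coprime_two_right.2 hvo
      rcases h1 with h1 | h1
      · obtain ⟨k, hk⟩ := hodd
        have h6 : Nat.card F ^ m - 1 = 2 * k := by omega
        rw [h6] at h1
        obtain ⟨g, hg⟩ := exists_psp_tor_plus (F := F) (m := m) (by omega) (N := k) (by
          rw [hqm] at hk; omega) (Or.inr (by rw [h6]))
        exact ⟨_, g, hg, hco.dvd_of_dvd_mul_left h1, by rw [hqm] at hk; omega⟩
      · obtain ⟨k, hk⟩ := hodd
        have h6 : Nat.card F ^ m + 1 = 2 * (k + 1) := by omega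
        rw [h6] at h1
        obtain ⟨g, hg⟩ := exists_psp_tor_minus (F := F) (m := m) (by omega) (N := k + 1) (by
          omega) (Or.inr (by rw [h6]))
        exact ⟨_, g, hg, hco.dvd_of_dvd_mul_left h1, by rw [hqm] at hk; omega⟩
  obtain ⟨N, g, hg, hvN, hN⟩ := hmain
  by_cases hNv : N = v
  · intro hSC
    have h3 := sc_bound hm hv hv2 hvF hd hSC
    rw [Cfsg.Agent.Lib.FieldAutCard.card_ringAut (p := p) (f := f) f.pos hf] at h3
    rw [hNv] at hN
    have h4 : (f : ℕ) * (2 * m) = 2 * ((f : ℕ) * m) := by ring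
    omega
  · exact not_SC_of_orderOf hv (y := g) (by rw [hg]; exact hvN) (by rw [hg]; exact hNv)

end

end Cfsg.Agent.H388.Der
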