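import Cfsg.Agent.H388.Der.Nsc
import Cfsg.Agent.H388.Der.BlkEx
import Cfsg.Agent.H264.FKS.TwoSix
import Cfsg.Agent.H264.FKS.Char
import Cfsg.Agent.H278.ElAsm
import Cfsg.Agent.H884.CxMain
import Cfsg.Agent.H503.El.PG

/-!
# S3500: the row `PSp_{2m}(q)`, `m ≥ 3`, `(m, q) ≠ (3, 2)`

`two_psp` : every proper subgroup `R` has two missing classes (`Two`).
-/

set_option autoImplicit false
set_option linter.style.haveILetI false

namespace Cfsg.Agent.H388.Der

open Matrix Cfsg Cfsg.Geo Cfsg.Agent.H439.Der Cfsg.Agent.H876 Cfsg.Agent.H262.El Cfsg.Agent.OrdDiv Cfsg.Agent.H436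
  Cfsg.Agent.H264.FKS Cfsg.Agent.H915.GN
open Cfsg.Agent.H278.El.SporNum (IsCl exc)
open Cfsg.Agent.H278.El.AltNum (dimOf surv)

section

variable {F : Type} [Field F] [Fintype F]

theorem od_of_prim {q e r : ℕ} (h : Prim q e r) : Od q e r := by
  refine ⟨h.prime, ?_, h.not_dvd⟩
  have := Fact.mk h.prime
  have hq : 1 ≤ q := by
    rcases Nat.eq_zero_or_pos q with rfl | h1
    · exact absurd (dvd_zero r) h.not_dvd
    · exact h1
  refine Nat.dvd_antisymm (orderOf_dvd_of_pow_eq_one ?_) ?_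
  · have h1 := (h.dvd_iff e).2 dvd_rfl
    have h2 : ((q ^ e - 1 : ℕ) : ZMod r) = 0 := (ZMod.natCast_eq_zero_iff _ _).2 h1
    rw [Nat.cast_sub (Nat.one_le_pow _ _ hq)] at h2
    push_cast at h2
    exact sub_eq_zero.1 h2
  · apply (h.dvd_iff _).1
    rw [← ZMod.natCast_eq_zero_iff, Nat.cast_sub (Nat.one_le_pow _ _ hq)]
    push_cast
    rw [pow_orderOf_eq_one, sub_self]

theorem num_of_od {q k r : ℕ} (hk : 1 ≤ k) (h : Od q (k + k) r) (hr2 : r ≠ 2) :
    ((q : ZMod r) ^ (k + k) + 1) * ((q : ZMod r) ^ (k + k - 1) - 1) ≠ 0 := by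
  have := Fact.mk h.prime
  have h1 : (q : ZMod r) ^ (k + k) = 1 := by
    have := pow_orderOf_eq_one (q : ZMod r)
    rwa [h.ord] at this
  rw [h1]
  refine mul_ne_zero ?_ ?_
  · intro h2
    have h3 : ((2 : ℕ) : ZMod r) = 0 := by
      push_cast
      linear_combination h2
    have h4 := (ZMod.natCast_eq_zero_iff 2 r).1 h3
    exact hr2 ((Nat.prime_dvd_prime_iff_eq h.prime Nat.prime_two).1 h4)
  · intro h2
    have h3 := orderOf_dvd_of_pow_eq_one (sub_eq_zero.1 h2)
    rw [h.ord] at h3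
    have := Nat.le_of_dvd (by omega) h3
    omega

/-- the socle `PΩ^-_{4k}(q)` -/
theorem two_of_four {p f k : ℕ} (hp : p.Prime) (hf : 1 ≤ f) (hF : Fintype.card F = p ^ f) (hk : 2 ≤ k)
    {R : Subgroup (PSp (k + k) F)} (S : Subgroup R) [S.Normal] [IsSimpleGroup S] (hna : ¬ IsMulCommutative S)
    (hC : Subgroup.centralizer (S : Set R) = ⊥) {g : Grp} (hS : IsNamed g S) (hg : g = .ominus (k + k) (p ^ f)) :
    Two (PSp (k + k) F) R := by
  have hfin : Finite (PSp (k + k) F) := Quotient.finite _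
  by_cases h6 : p = 2 ∧ f * (k + k) = 6
  · obtain ⟨rfl, h6⟩ := h6
    have hf1 : f = 1 := by
      have h7 : f * 4 ≤ f * (k + k) := Nat.mul_le_mul_left f (by omega)
      omega
    subst hf1
    have hk3 : k = 3 := by omega
    subst hk3
    obtain ⟨b, hb, hbf⟩ := blk_seven (F := F) (by rw [hF]; norm_num)
    have hcyc : Cyc 7 R := cyc_six S hna hC (Or.inl hg) hS
    haveI : Fact (Nat.Prime 7) := ⟨by norm_num⟩
    exact two_of_blk hk (by norm_num) (by norm_num) hb hbf fun a b ha hb => hcyc.exists_conj ha hb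
  · obtain ⟨r, hr, hlt⟩ := exists_big (p := p) (f := f) (n := k + k) hp hf (by omega) h6
    have hr2 : r ≠ 2 := by
      have : 1 * 4 ≤ f * (k + k) := Nat.mul_le_mul hf (by omega)
      omega
    have hcyc : Cyc r R := cyc_four S hna hC (Or.inl hg) hS hp hf hr hlt (by omega) (by omega)
    obtain ⟨b, hb, hbf⟩ := blk_of_od (F := F) (k := k) (r := r) (by omega) (by
      rw [hF, two_mul]; exact od_of_prim hr)
    haveI : Fact r.Prime := ⟨hr.prime⟩
    exact two_of_blk hk hr.prime hr2 hb hbf fun a b ha hb => hcyc.exists_conj ha hb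

/-- the geometric class `O^-_{4k}(q)` -/
theorem two_of_minus {p f k : ℕ} (hp : p.Prime) (hf : 1 ≤ f) (hF : Fintype.card F = p ^ f) (hk : 2 ≤ k)
    {R : Subgroup (PSp (k + k) F)} (hR : Cfsg.Agent.H901.SaxSp.InOMinus (k + k) F (pre R)) :
    Two (PSp (k + k) F) R := by
  by_cases h6 : p = 2 ∧ f * (k + k) = 6
  · obtain ⟨rfl, h6⟩ := h6
    have hf1 : f = 1 := by
      have h7 : f * 4 ≤ f * (k + k) := Nat.mul_le_mul_left f (by omega)
      omega
    subst hf1
    have hk3 : k = 3 := by omega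
    subst hk3
    obtain ⟨b, hb, hbf⟩ := blk_seven (F := F) (by rw [hF]; norm_num)
    refine two_minus hk (by norm_num) (by norm_num) ?_ hb hbf hR
    rw [hF]
    decide
  · obtain ⟨r, hr, hlt⟩ := exists_big (p := p) (f := f) (n := k + k) hp hf (by omega) h6
    have hr2 : r ≠ 2 := by
      have : 1 * 4 ≤ f * (k + k) := Nat.mul_le_mul hf (by omega)
      omega
    have hod := od_of_prim hr
    rw [← hF] at hod
    obtain ⟨b, hb, hbf⟩ := blk_of_od (F := F) (k := k) (r := r) (by omega) (by rw [two_mul]; exact hod)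
    exact two_minus hk hr.prime hr2 (num_of_od (by omega) hod hr2) hb hbf hR

theorem od_two_five : Od 2 (2 * 2) 5 := by
  have h1 : orderOf (2 : ZMod 5) = 2 ^ (1 + 1) := orderOf_eq_prime_pow (p := 2) (n := 1) (by decide) (by decide)
  exact ⟨by norm_num, by exact_mod_cast h1, by norm_num⟩

omit [Fintype F] in
theorem hker_sp' {m : ℕ} (x : Matrix.symplecticGroup (Fin m) F) :
    QuotientGroup.mk' (Subgroup.center (Matrix.symplecticGroup (Fin m) F)) x = 1 ↔
      spToGL m F x ∈ scalars (Fin m ⊕ Fin m) F := by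
  rw [show QuotientGroup.mk' (Subgroup.center (Matrix.symplecticGroup (Fin m) F)) x = 1 ↔
    x ∈ Subgroup.center (Matrix.symplecticGroup (Fin m) F) from QuotientGroup.eq_one_iff x]
  constructor
  · intro h
    obtain ⟨a, ha⟩ := (LieClassical.SympCenter.mem_center_iff m x).1 h
    rcases isEmpty_or_nonempty (Fin m ⊕ Fin m) with hι | ⟨⟨i⟩⟩
    · have : spToGL m F x = 1 := Units.ext (by ext i; exact (hι.false i).elim)
      rw [this]
      exact Subgroup.one_mem _
    · have ha0 : a ≠ 0 := by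
        rintro rfl
        rw [zero_smul] at ha
        have h3 : (0 : Matrix (Fin m ⊕ Fin m) (Fin m ⊕ Fin m) F) = 1 := by
          have h1 : x.1 * (x⁻¹).1 = 1 := congrArg Subtype.val (mul_inv_cancel x)
          rw [ha, zero_mul] at h1
          exact h1
        have h4 := congrFun (congrFun h3 i) i
        rw [Matrix.zero_apply, Matrix.one_apply_eq] at h4
        exact zero_ne_one h4
      refine ⟨Units.mk0 a ha0, Units.ext ?_⟩
      ext i j
      have h5 := congrFun (congrFun ha i) j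
      change (Matrix.scalar (Fin m ⊕ Fin m) a) i j = x.1 i j
      rw [h5, Matrix.scalar_apply, Matrix.smul_apply, Matrix.diagonal_apply, Matrix.one_apply]
      split_ifs <;> simp
  · rintro ⟨u, hu⟩
    refine (LieClassical.SympCenter.mem_center_iff m x).2 ⟨(u : F), ?_⟩
    have h1 := congrArg Units.val hu
    ext i j
    have h5 := congrFun (congrFun h1 i) j
    change (Matrix.scalar (Fin m ⊕ Fin m) (u : F)) i j = x.1 i j at h5
    rw [← h5, Matrix.scalar_apply, Matrix.smul_apply, Matrix.diagonal_apply, Matrix.one_apply]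
    split_ifs <;> simp

/-- **Every proper subgroup of `PSp_{2m}(q)`, `m ≥ 3`, `(m, q) ≠ (3, 2)`, has two missing classes.** -/
theorem two_psp (tab : OrderTable.{0}) (hK : ∀ (X : Type) [Group X] [Finite X] [IsSimpleGroup X], Cfsg.IsKnownSimple' X)
    {m : ℕ} (hm : 3 ≤ m) (hex : ¬ (m = 3 ∧ Fintype.card F = 2)) {R : Subgroup (PSp m F)} (hR : R ≠ ⊤) :
    Two (PSp m F) R := by
  have hfin : Finite (PSp m F) := Quotient.finite _
  have nsc := nsc_psp (F := F) hm hex
  obtain ⟨p, hpc⟩ := CharP.exists F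
  obtain ⟨f', hp, hF⟩ := FiniteField.card F p
  obtain ⟨f, hff⟩ : ∃ f : ℕ, f = (f' : ℕ) := ⟨_, rfl⟩
  rw [← hff] at hF
  have hf : 1 ≤ f := by rw [hff]; exact f'.pos
  by_cases h42 : m = 4 ∧ Fintype.card F = 2
  · obtain ⟨rfl, hF2⟩ := h42
    rcases Cfsg.Agent.H503.El.pgap_sp82 tab hK F hF2 R hR with h | h
    · exact Two.of_pgap nsc h
    · have h25 : ¬ 5 ^ 2 ∣ Nat.card R := by
        rcases h with h | h <;> rw [h] <;> norm_num
      have hcyc : Cyc 5 R := cyc_of_card (by norm_num) h25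
      haveI : Fact (Nat.Prime 5) := ⟨by norm_num⟩
      have hod : Od (Fintype.card F) (2 * 2) 5 := by
        rw [hF2]
        exact od_two_five
      obtain ⟨b, hb, hbf⟩ := blk_of_od (F := F) (k := 2) (r := 5) (by norm_num) hod
      exact two_of_blk (k := 2) le_rfl (by norm_num) (by norm_num) hb hbf fun a b ha hb => hcyc.exists_conj ha hb
  rcases Cfsg.Agent.H901.SaxSp.psp_cases (F := F) (m := m) (by omega) (fun h => by omega) hex (fun h => by omega) hR with
    h | ⟨P, hP, -⟩ | h | ⟨h, -⟩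
  · exact Two.of_pgap nsc h
  · have hT : IsNamed (.psp m (Fintype.card F)) (PSp m F) := named_psp (F := F) (n := m) (by omega) (by omega)
    obtain ⟨S, hSn, hSs, hna, hC, ⟨e⟩⟩ := exists_socle
      (spToGL m F) spToGL_injective _ (QuotientGroup.mk'_surjective _) hker_sp' hP
    obtain ⟨g, hg⟩ := exists_named tab (hK S) fun h => hna ⟨⟨h⟩⟩
    refine Cfsg.Agent.H278.El.Asm.res_kill (p := p) (Q := Two (PSp m F) R) hT trivial ?_ ?_ S hC hg e ?_
      (fun h => Two.of_pgap nsc h) ?_ ?_
    · simp only [surv, List.mem_cons, Grp.psp.injEq, reduceCtorEq, or_false, false_or, List.not_mem_nil, not_or]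
      exact ⟨by omega, by omega, by omega, by omega⟩
    · intro g' hg'
      simp only [exc, List.mem_cons, Prod.mk.injEq, reduceCtorEq, and_false, or_false, List.not_mem_nil] at hg'
    · rw [Fintype.card_sum, Fintype.card_fin]
      exact (two_mul m).symm
    · intro hch
      by_cases hfull : Full (PSp m F) R
      · rw [hF] at hT
        obtain ⟨h1, h2⟩ := full_psp hT hp hf hm (fun h => by
            obtain ⟨rfl, h⟩ := h
            have h3 : f * 6 ≤ f * (2 * m) := Nat.mul_le_mul_left f (by omega)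
            have h4 : f = 1 := by omega
            subst h4
            exact hex ⟨by omega, by rw [hF]; norm_num⟩) (fun h => by
            obtain ⟨rfl, h⟩ := h
            have h3 : f * 4 ≤ f * (2 * (m - 1)) := Nat.mul_le_mul_left f (by omega)
            have h4 : f = 1 := by omega
            subst h4
            exact h42 ⟨by omega, by rw [hF]; norm_num⟩) hR hfull S hna hC hg hch
        obtain ⟨k, hk⟩ : ∃ k, m = k + k := ⟨m / 2, by omega⟩
        subst hk
        exact two_of_four hp hf hF (by omega) S hna hC hg h2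
      · refine Two.of_pgap nsc ?_
        unfold Full at hfull
        push Not at hfull
        obtain ⟨r, h1, h2, h3⟩ := hfull
        exact ⟨r, h1, h2, h3⟩
    · intro s hs hsp hch
      rcases Cfsg.Agent.H884.Cx.cross_row (p := p) hp hT trivial ⟨f, hF⟩ (F := F) (ι := Fin m ⊕ Fin m) (by
          rw [Fintype.card_sum, Fintype.card_fin]; exact (two_mul m).symm) S hna hC hP.perfect e hs hsp hg hch with h | h
      · exact Two.of_pgap nsc h
      · exfalso
        simp only [Cfsg.Agent.H884.Cx.excP, List.mem_cons, Prod.mk.injEq, Grp.psp.injEq, reduceCtorEq, and_false,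
          or_false, false_or, List.not_mem_nil] at h
        omega
  · obtain ⟨⟨k, rfl⟩, hodd, hrest⟩ := h
    exact two_of_minus hp hf hF (by omega) ⟨⟨k, rfl⟩, hodd, hrest⟩
  · omega

/-- the row -/
theorem row_psp_of (tab : OrderTable.{0})
    (hK : ∀ (X : Type) [Group X] [Finite X] [IsSimpleGroup X], Cfsg.IsKnownSimple' X)
    {m : ℕ} (hm : 3 ≤ m) (hex : ¬ (m = 3 ∧ Fintype.card F = 2)) : Row (PSp m F) :=
  fun _ hM => Or.inl (two_psp tab hK hm hex hM.1)

end

end Cfsg.Agent.H388.Der
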