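import Cfsg.Agent.S0000
import Cfsg.Agent.OrdDiv.Table
import Cfsg.Agent.H388.Der.RowPSp

/-!
# S3500: the row `PSp_{2m}(q)` without hypotheses
-/

set_option autoImplicit false

namespace Cfsg.Agent.H388.Der

open Cfsg Cfsg.Agent.OrdDiv Cfsg.Agent.H439.Der

theorem row_psp {F : Type} [Field F] [Fintype F] {m : ℕ} (hm : 3 ≤ m) (hex : ¬ (m = 3 ∧ Fintype.card F = 2)) :
    Row (Cfsg.PSp m F) :=
  row_psp_of OrdDiv.table (fun _ _ _ _ => Cfsg.Agent.S0000.result) hm hex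

theorem two_psp_fin {F : Type} [Field F] [Fintype F] {m : ℕ} (hm : 3 ≤ m) (hex : ¬ (m = 3 ∧ Fintype.card F = 2))
    {R : Subgroup (Cfsg.PSp m F)} (hR : R ≠ ⊤) : Two (Cfsg.PSp m F) R :=
  two_psp OrdDiv.table (fun _ _ _ _ => Cfsg.Agent.S0000.result) hm hex hR

end Cfsg.Agent.H388.Der
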